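import Mathlib

/-!
# Hermitian idempotent matrices with prescribed range
-/

set_option autoImplicit false

namespace Groth.Agent.Helper2.GLHerm

open scoped ComplexConjugate InnerProductSpace

variable {J : Type} [Fintype J] [DecidableEq J]

/-- For every subspace `W₀` of `J → ℂ` there is a Hermitian idempotent matrix whose range is `W₀`. -/
theorem exists_hermitian_idempotent (W₀ : Submodule ℂ (J → ℂ)) :
    ∃ P : Matrix J J ℂ, P * P = P ∧ (∀ α β, conj (P β α) = P α β) ∧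
      (∀ v, P.mulVec v ∈ W₀) ∧ (∀ v ∈ W₀, P.mulVec v = v) := by
  let ψ : (J → ℂ) ≃ₗ[ℂ] EuclideanSpace ℂ J := (WithLp.linearEquiv 2 ℂ (J → ℂ)).symm
  let W' : Submodule ℂ (EuclideanSpace ℂ J) := W₀.map (ψ : (J → ℂ) →ₗ[ℂ] EuclideanSpace ℂ J)
  let S : EuclideanSpace ℂ J →ₗ[ℂ] EuclideanSpace ℂ J := (W'.starProjection : _ →ₗ[ℂ] _)
  let L : (J → ℂ) →ₗ[ℂ] (J → ℂ) := (ψ.symm : _ →ₗ[ℂ] _) ∘ₗ S ∘ₗ (ψ : _ →ₗ[ℂ] _)
  have hLmem : ∀ v, L v ∈ W₀ := by
    intro v
    have h1 : S (ψ v) ∈ W' := W'.starProjection_apply_mem (ψ v)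
    obtain ⟨w, hw, hw'⟩ := h1
    have : L v = w := by
      change ψ.symm (S (ψ v)) = w
      rw [← hw']
      exact ψ.symm_apply_apply w
    rw [this]
    exact hw
  have hLfix : ∀ v ∈ W₀, L v = v := by
    intro v hv
    have h1 : ψ v ∈ W' := ⟨v, hv, rfl⟩
    have h2 : S (ψ v) = ψ v := (W'.starProjection_eq_self_iff).mpr h1
    change ψ.symm (S (ψ v)) = v
    rw [h2]
    exact ψ.symm_apply_apply v
  refine ⟨LinearMap.toMatrix' L, ?_, ?_, ?_, ?_⟩
  · rw [← LinearMap.toMatrix'_comp]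
    congr 1
    refine LinearMap.ext fun v => ?_
    exact hLfix _ (hLmem v)
  · intro α β
    have hentry : ∀ α β : J, LinearMap.toMatrix' L α β =
        ⟪EuclideanSpace.single α (1 : ℂ), S (EuclideanSpace.single β (1 : ℂ))⟫_ℂ := by
      intro α β
      rw [LinearMap.toMatrix'_apply, EuclideanSpace.inner_single_left]
      simp only [map_one, one_mul]
      rfl
    rw [hentry, hentry, inner_conj_symm]
    exact (W'.inner_starProjection_left_eq_right _ _)
  · intro v
    rw [LinearMap.toMatrix'_mulVec]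
    exact hLmem v
  · intro v hv
    rw [LinearMap.toMatrix'_mulVec]
    exact hLfix v hv

end Groth.Agent.Helper2.GLHerm
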