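import Mathlib
import Groth.Prelude.Def_HopfRep
import Groth.Agent.Lib.Helper2.ComodDual
import Groth.Agent.Lib.Helper2.GLHerm.HermMat

/-!
# Comodule projections for σ-Hermitian comodules
-/

set_option autoImplicit false

namespace Groth.Agent.Helper2.GLHerm

open scoped ComplexConjugate TensorProduct
open Groth.Agent.Helper2.ComodDual

universe v w

variable {A : Type v} [CommRing A] [Bialgebra ℂ A]
variable (σ : A → A) (hσadd : ∀ x y, σ (x + y) = σ x + σ y)
  (hσsmul : ∀ (c : ℂ) (x : A), σ (c • x) = conj c • σ x)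
variable {T : Type w} [AddCommGroup T] [Module ℂ T] (c : HopfRep.Comod ℂ A T)
variable {J : Type} [Fintype J] [DecidableEq J] (t : Module.Basis J ℂ T) (a : J → J → A)
  (ha : ∀ β, c.coact (t β) = ∑ α, t α ⊗ₜ[ℂ] a α β) (hherm : ∀ α β, σ (a α β) = a β α)

include hσadd in
lemma sigma_sum {ι : Type*} (s : Finset ι) (f : ι → A) (h0 : σ 0 = 0) :
    σ (∑ i ∈ s, f i) = ∑ i ∈ s, σ (f i) := by
  classical
  induction s using Finset.induction_on with
  | empty => simpa using h0
  | insert i s hi ih => rw [Finset.sum_insert hi, Finset.sum_insert hi, hσadd, ih]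

include hσadd hσsmul ha hherm in
/-- **σ-Hermitian comodules are completely reducible**: every subcomodule is the image of a
comodule projection. -/
theorem exists_comod_proj (W : Submodule ℂ T)
    (hW : ∀ w ∈ W, c.coact w ∈ LinearMap.range (W.subtype.rTensor A)) :
    ∃ P : T →ₗ[ℂ] T, c.coact ∘ₗ P = P.rTensor A ∘ₗ c.coact ∧ (∀ x, P x ∈ W) ∧
      (∀ x ∈ W, P x = x) := by
  have hσ0 : σ 0 = 0 := by
    have := hσsmul 0 0
    simpa using this
  obtain ⟨Pm, hPP, hPh, hPmem, hPfix⟩ :=
    exists_hermitian_idempotent (W.map (t.equivFun : T →ₗ[ℂ] (J → ℂ)))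
  let P : T →ₗ[ℂ] T := (t.equivFun.symm : (J → ℂ) →ₗ[ℂ] T) ∘ₗ Pm.mulVecLin ∘ₗ
    (t.equivFun : T →ₗ[ℂ] (J → ℂ))
  have hPt : ∀ β, P (t β) = ∑ α, Pm α β • t α := by
    intro β
    change t.equivFun.symm (Pm.mulVec (t.equivFun (t β))) = _
    have hsingle : t.equivFun (t β) = Pi.single β 1 := by
      ext j
      rw [Module.Basis.equivFun_self]
      simp [Pi.single_apply, eq_comm]
    rw [hsingle, Module.Basis.equivFun_symm_apply]
    refine Finset.sum_congr rfl fun α _ => ?_
    rw [Matrix.mulVec_single_one]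
    rfl
  have hPW : ∀ x, P x ∈ W := by
    intro x
    have h1 := hPmem (t.equivFun x)
    obtain ⟨w, hw, hw'⟩ := h1
    have : P x = w := by
      change t.equivFun.symm (Pm.mulVec (t.equivFun x)) = w
      rw [← hw']
      exact t.equivFun.symm_apply_apply w
    rw [this]
    exact hw
  have hPfixW : ∀ x ∈ W, P x = x := by
    intro x hx
    change t.equivFun.symm (Pm.mulVec (t.equivFun x)) = x
    have h := hPfix (t.equivFun x) ⟨x, hx, rfl⟩
    rw [h]
    exact t.equivFun.symm_apply_apply x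
  -- the two coefficient families
  let E1 : J → J → A := fun α β => ∑ γ, Pm γ β • a α γ
  let E2 : J → J → A := fun α β => ∑ γ, Pm α γ • a γ β
  have h1 : ∀ β, c.coact (P (t β)) = ∑ α, t α ⊗ₜ[ℂ] E1 α β := by
    intro β
    rw [hPt, map_sum]
    simp_rw [map_smul, ha, Finset.smul_sum, TensorProduct.smul_tmul', TensorProduct.smul_tmul,
      E1, TensorProduct.tmul_sum]
    exact Finset.sum_comm
  have h2 : ∀ β, P.rTensor A (c.coact (t β)) = ∑ α, t α ⊗ₜ[ℂ] E2 α β := by
    intro β
    rw [ha, map_sum]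
    simp_rw [LinearMap.rTensor_tmul, hPt, TensorProduct.sum_tmul, TensorProduct.smul_tmul, E2,
      TensorProduct.tmul_sum]
    exact Finset.sum_comm
  -- (i): `a P = P a P`
  have hi : ∀ δ β, E1 δ β = ∑ α, Pm δ α • E1 α β := by
    intro δ β
    obtain ⟨s, hs⟩ := hW _ (hPW (t β))
    have h3 : (LinearMap.id - P).rTensor A (c.coact (P (t β))) = 0 := by
      rw [← hs, ← LinearMap.comp_apply, ← LinearMap.rTensor_comp]
      have : (LinearMap.id - P) ∘ₗ W.subtype = 0 := by
        ext w
        simp only [LinearMap.comp_apply, Submodule.subtype_apply, LinearMap.sub_apply,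
          LinearMap.id_apply, LinearMap.zero_apply]
        rw [hPfixW w w.2, sub_self]
      rw [this, LinearMap.rTensor_zero, LinearMap.zero_apply]
    rw [h1, map_sum] at h3
    simp_rw [LinearMap.rTensor_tmul, LinearMap.sub_apply, LinearMap.id_apply, hPt,
      TensorProduct.sub_tmul, TensorProduct.sum_tmul, TensorProduct.smul_tmul] at h3
    rw [Finset.sum_sub_distrib, Finset.sum_comm] at h3
    simp_rw [← TensorProduct.tmul_sum] at h3
    rw [← Finset.sum_sub_distrib] at h3
    simp_rw [← TensorProduct.tmul_sub] at h3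
    have h4 := congrArg (coordT t δ) h3
    rw [coordT_sum, map_zero, sub_eq_zero] at h4
    exact h4
  -- (ii): `P a = P a P`, from (i) by applying σ
  have hii : ∀ β δ, E2 β δ = ∑ α, Pm α δ • E2 β α := by
    intro β δ
    have h3 := congrArg σ (hi δ β)
    simp only [E1] at h3
    rw [sigma_sum σ hσadd _ _ hσ0, sigma_sum σ hσadd _ _ hσ0] at h3
    simp_rw [Finset.smul_sum, sigma_sum σ hσadd _ _ hσ0, smul_smul, hσsmul, hherm, map_mul,
      hPh] at h3
    simp only [E2]
    rw [h3]
    simp_rw [Finset.smul_sum, smul_smul]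
  have hE : ∀ α β, E1 α β = E2 α β := by
    intro α β
    rw [hi, hii]
    simp only [E1, E2]
    simp_rw [Finset.smul_sum, smul_smul]
    rw [Finset.sum_comm]
    refine Finset.sum_congr rfl fun x _ => Finset.sum_congr rfl fun y _ => ?_
    rw [mul_comm]
  refine ⟨P, ?_, hPW, hPfixW⟩
  apply t.ext
  intro β
  change c.coact (P (t β)) = P.rTensor A (c.coact (t β))
  rw [h1, h2]
  simp_rw [hE]

end Groth.Agent.Helper2.GLHerm
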