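import Mathlib
import Groth.Prelude.Def_GLin5

/-!
# The conjugate-transpose involution on the coordinate ring of `GL_r` over `ℂ`
-/

set_option autoImplicit false

namespace Groth.Agent.Helper2.GLHerm

open scoped ComplexConjugate
open CoordGrp

variable (r : ℕ)

/-- transpose on the index set of the generators -/
def swapIdx : GLPoly.Idx r → GLPoly.Idx r
  | Sum.inl p => Sum.inl (p.2, p.1)
  | Sum.inr u => Sum.inr u

/-- conjugate-transpose on the big polynomial ring -/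
noncomputable def sigmaB : GLb r ℂ →+* GLb r ℂ :=
  ((MvPolynomial.rename (swapIdx r) :
      MvPolynomial (GLPoly.Idx r) ℂ →ₐ[ℂ] MvPolynomial (GLPoly.Idx r) ℂ) :
    MvPolynomial (GLPoly.Idx r) ℂ →+* MvPolynomial (GLPoly.Idx r) ℂ).comp
    (MvPolynomial.map (starRingEnd ℂ))

variable {r}

lemma sigmaB_X (i j : Fin r) : sigmaB r (GLb.X i j) = GLb.X j i := by
  change ((MvPolynomial.rename (swapIdx r)) (MvPolynomial.map (starRingEnd ℂ)
    (MvPolynomial.X (Sum.inl (i, j))))) = MvPolynomial.X (Sum.inl (j, i))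
  rw [MvPolynomial.map_X, MvPolynomial.rename_X]
  rfl

lemma sigmaB_D : sigmaB r (GLb.D : GLb r ℂ) = GLb.D := by
  change ((MvPolynomial.rename (swapIdx r)) (MvPolynomial.map (starRingEnd ℂ)
    (MvPolynomial.X (Sum.inr ())))) = MvPolynomial.X (Sum.inr ())
  rw [MvPolynomial.map_X, MvPolynomial.rename_X]
  rfl

lemma sigmaB_algebraMap (z : ℂ) :
    sigmaB r (algebraMap ℂ (GLb r ℂ) z) = algebraMap ℂ (GLb r ℂ) (conj z) := by
  change ((MvPolynomial.rename (swapIdx r)) (MvPolynomial.map (starRingEnd ℂ)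
    (MvPolynomial.C z))) = MvPolynomial.C (conj z)
  rw [MvPolynomial.map_C, MvPolynomial.rename_C]

lemma sigmaB_det : sigmaB r (GLb.det r ℂ) = GLb.det r ℂ := by
  rw [GLb.det, RingHom.map_det]
  have : (sigmaB r).mapMatrix (GLb.genMat r ℂ) = (GLb.genMat r ℂ).transpose := by
    ext i j
    simp only [RingHom.mapMatrix_apply, Matrix.map_apply, Matrix.transpose_apply, GLb.genMat]
    exact sigmaB_X i j
  rw [this, Matrix.det_transpose]

lemma sigmaB_rel : sigmaB r (GLb.rel r ℂ) = GLb.rel r ℂ := by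
  rw [GLb.rel, map_sub, map_mul, map_one, sigmaB_det, sigmaB_D]

variable (r)

/-- conjugate-transpose on the coordinate ring of `GL_r` -/
noncomputable def sigma : GLn r ℂ →+* GLn r ℂ :=
  Ideal.quotientMap (GLb.relIdeal r ℂ) (sigmaB r) (by
    rw [GLb.relIdeal, Ideal.span_singleton_le_iff_mem, Ideal.mem_comap, sigmaB_rel]
    exact Ideal.mem_span_singleton_self _)

variable {r}

lemma sigma_mk (x : GLb r ℂ) : sigma r (GLn.mk r ℂ x) = GLn.mk r ℂ (sigmaB r x) := rfl

lemma sigma_X (i j : Fin r) : sigma r (GLn.X i j) = GLn.X j i := by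
  change sigma r (GLn.mk r ℂ (GLb.X i j)) = GLn.mk r ℂ (GLb.X j i)
  rw [sigma_mk, sigmaB_X]

lemma sigma_Dinv : sigma r (GLn.Dinv : GLn r ℂ) = GLn.Dinv := by
  change sigma r (GLn.mk r ℂ GLb.D) = GLn.mk r ℂ GLb.D
  rw [sigma_mk, sigmaB_D]

lemma sigma_smul (z : ℂ) (x : GLn r ℂ) : sigma r (z • x) = conj z • sigma r x := by
  rw [Algebra.smul_def, Algebra.smul_def, map_mul]
  congr 1
  have h1 : algebraMap ℂ (GLn r ℂ) z = GLn.mk r ℂ (algebraMap ℂ (GLb r ℂ) z) :=
    ((GLn.mk r ℂ).commutes z).symm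
  have h2 : algebraMap ℂ (GLn r ℂ) (conj z) = GLn.mk r ℂ (algebraMap ℂ (GLb r ℂ) (conj z)) :=
    ((GLn.mk r ℂ).commutes _).symm
  rw [h1, h2, sigma_mk, sigmaB_algebraMap]

end Groth.Agent.Helper2.GLHerm
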