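import Mathlib
import Groth.Prelude.Def_ComodTens

/-!
# Closed formula for the coaction of a tensor power of a comodule on pure tensors
-/

set_option autoImplicit false

namespace Groth.Agent.Helper2.GLHerm

open TensorProduct PiTensorProduct ComodTens

universe u v w

variable {k : Type u} [CommRing k] {A : Type v} [CommRing A] [Bialgebra k A]
  {V : Type w} [AddCommGroup V] [Module k V]

/-- Closed formula for the tensor power coaction. -/
theorem tpow_coact_tprod {ι : Type} [Fintype ι] (c : HopfRep.Comod k A V) (e : ι → V)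
    (m : ι → ι → A) (hc : ∀ i, c.coact (e i) = ∑ j, e j ⊗ₜ[k] m j i) :
    ∀ (a : ℕ) (w : Fin a → ι),
      (Comod.tpow c a).coact (tprod k fun s => e (w s)) =
        ∑ w' : Fin a → ι, (tprod k fun s => e (w' s)) ⊗ₜ[k] ∏ s, m (w' s) (w s) := by
  intro a
  induction a with
  | zero =>
    intro w
    have h1 : (tprod k fun s : Fin 0 => e (w s)) =
        (PiTensorProduct.isEmptyEquiv (Fin 0) (R := k) (s := fun _ : Fin 0 => V)).symm 1 := by
      rw [LinearEquiv.eq_symm_apply, isEmptyEquiv_apply_tprod]
    rw [tpow_zero, h1, ofEquiv_coact_apply]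
    rw [Fintype.sum_eq_single (fun s : Fin 0 => Fin.elim0 s)]
    · simp only [Finset.univ_eq_empty, Finset.prod_empty]
      have : (HopfRep.Comod.trivial k A k).coact (1 : k) = (1 : k) ⊗ₜ[k] (1 : A) := rfl
      rw [this, LinearMap.rTensor_tmul]
      congr 1
      rw [LinearEquiv.coe_coe, LinearEquiv.symm_apply_eq, isEmptyEquiv_apply_tprod]
    · intro x hx
      exact absurd (Subsingleton.elim _ _) hx
  | succ a ih =>
    intro w
    have hw : (tprod k fun s : Fin (a + 1) => e (w s)) =
        TensorPower.mulEquiv (R := k) (M := V) (n := a) (m := 1)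
          ((tprod k fun s : Fin a => e (w s.castSucc)) ⊗ₜ[k]
            (tprod k fun _ : Fin 1 => e (w (Fin.last a)))) := by
      rw [← TensorPower.gMul_def, TensorPower.tprod_mul_tprod]
      congr 1
      funext s
      refine Fin.lastCases ?_ (fun s => ?_) s
      · have : (Fin.last a : Fin (a + 1)) = Fin.natAdd a (0 : Fin 1) := by
          ext; simp
        rw [this, Fin.append_right]
      · have : (s.castSucc : Fin (a + 1)) = Fin.castAdd 1 s := rfl
        rw [this, Fin.append_left]
        rfl
    have h1 : (Comod.tpowOne c).coact (tprod k fun _ : Fin 1 => e (w (Fin.last a))) =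
        ∑ j, (tprod k fun _ : Fin 1 => e j) ⊗ₜ[k] m j (w (Fin.last a)) := by
      have h2 : ∀ x : V, (tprod k fun _ : Fin 1 => x) =
          (PiTensorProduct.subsingletonEquiv (R := k) (s := fun _ : Fin 1 => V) (0 : Fin 1)).symm x :=
        fun x => (subsingletonEquiv_symm_apply' (R := k) (M := V) (0 : Fin 1) x).symm
      rw [h2, ofEquiv_coact_apply, hc, map_sum]
      refine Finset.sum_congr rfl fun j _ => ?_
      rw [LinearMap.rTensor_tmul, h2]
      rfl
    rw [tpow_succ, hw, ofEquiv_coact_apply,
      tensor_coact_tmul_of_sum (Comod.tpow c a) (Comod.tpowOne c) Finset.univ Finset.univ _ _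
        (fun w' : Fin a → ι => tprod k fun s => e (w' s)) (fun w' => ∏ s, m (w' s) (w s.castSucc))
        (fun j => tprod k fun _ : Fin 1 => e j) (fun j => m j (w (Fin.last a))) (ih _) h1]
    simp only [map_sum, LinearMap.rTensor_tmul, LinearEquiv.coe_coe]
    rw [← (Fin.snocEquiv (fun _ : Fin (a + 1) => ι)).sum_comp, Fintype.sum_prod_type, Finset.sum_comm]
    refine Finset.sum_congr rfl fun j _ => Finset.sum_congr rfl fun w' _ => ?_
    have h3 : TensorPower.mulEquiv (R := k) (M := V) (n := a) (m := 1)
        ((tprod k fun s : Fin a => e (w' s)) ⊗ₜ[k] (tprod k fun _ : Fin 1 => e j)) =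
        tprod k fun s : Fin (a + 1) => e (Fin.snocEquiv (fun _ : Fin (a + 1) => ι) (j, w') s) := by
      rw [← TensorPower.gMul_def, TensorPower.tprod_mul_tprod]
      congr 1
      funext s
      refine Fin.lastCases ?_ (fun s => ?_) s
      · have h : Fin.append (fun s : Fin a => e (w' s)) (fun _ : Fin 1 => e j) (Fin.last a) = e j := by
          have : (Fin.last a : Fin (a + 1)) = Fin.natAdd a (0 : Fin 1) := by
            ext; simp
          rw [this, Fin.append_right]
        rw [h]
        simp [Fin.snocEquiv]
      · have h : Fin.append (fun s : Fin a => e (w' s)) (fun _ : Fin 1 => e j) s.castSucc =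
            e (w' s) := by
          have : (s.castSucc : Fin (a + 1)) = Fin.castAdd 1 s := rfl
          rw [this, Fin.append_left]
        rw [h]
        simp [Fin.snocEquiv]
    rw [h3, Fin.prod_univ_castSucc]
    simp [Fin.snocEquiv]

end Groth.Agent.Helper2.GLHerm
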