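import Mathlib
import Groth.Prelude.Def_ComodTens
import Groth.Prelude.Def_GLin5
import Groth.Agent.Lib.Helper2.GLHerm.TPow
import Groth.Agent.Lib.Helper2.GLHerm.Sigma
import Groth.Agent.Lib.Helper2.GLHerm.Proj

/-!
# The comodule `((ℂ^r)^{⊗ a})^{⊕ b} ⊗ det^{-c}` is σ-Hermitian
-/

set_option autoImplicit false

namespace Groth.Agent.Helper2.GLHerm

open scoped TensorProduct
open CoordGrp ComodTens PiTensorProduct

variable (r a b c : ℕ)

/-- the target comodule structure of the statement -/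
@[reducible] noncomputable def tau :
    HopfRep.Comod ℂ (GLn r ℂ) (Fin b → TensorPower ℂ a (Fin r → ℂ)) :=
  ComodTens.Comod.twist
    (ComodTens.Comod.pi fun _ : Fin b =>
      ComodTens.Comod.tpow (GLin.comodAlong (CoordGrp.Mat.toGLn r ℂ) (ComodTens.stdVec r ℂ)) a)
    (CoordGrp.GLn.Dinv ^ c)
    (IsGroupLikeElem.pow ⟨CoordGrp.GLn.counit_Dinv, CoordGrp.GLn.comul_Dinv⟩)

/-- the standard basis of the target -/
noncomputable def tB :
    Module.Basis (Fin b × (Fin a → Fin r)) ℂ (Fin b → TensorPower ℂ a (Fin r → ℂ)) :=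
  (Pi.basis (fun _ : Fin b =>
    Basis.piTensorProduct (fun _ : Fin a => Pi.basisFun ℂ (Fin r)))).reindex
    (Equiv.sigmaEquivProd (Fin b) (Fin a → Fin r))

lemma tB_apply (β : Fin b × (Fin a → Fin r)) :
    tB r a b β = Pi.single β.1 (tprod ℂ fun s => (Pi.single (β.2 s) (1 : ℂ) : Fin r → ℂ)) := by
  rw [tB, Module.Basis.reindex_apply, Pi.basis_apply]
  simp only [Equiv.sigmaEquivProd_symm_apply, Basis.piTensorProduct_apply, Pi.basisFun_apply]

/-- the matrix coefficients of the target in its standard basis -/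
noncomputable def aT (α β : Fin b × (Fin a → Fin r)) : GLn r ℂ :=
  if α.1 = β.1 then (∏ s, GLn.X (α.2 s) (β.2 s)) * GLn.Dinv ^ c else 0

lemma std_coact_single (i : Fin r) :
    (GLin.comodAlong (CoordGrp.Mat.toGLn r ℂ) (ComodTens.stdVec r ℂ)).coact (Pi.single i 1) =
      ∑ j : Fin r, (Pi.single j (1 : ℂ) : Fin r → ℂ) ⊗ₜ[ℂ] GLn.X j i := by
  rw [GLin.comodAlong_coact, stdVec_coact_single, map_sum]
  refine Finset.sum_congr rfl fun j _ => ?_
  rw [TensorProduct.map_tmul, LinearMap.id_apply]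
  congr 1
  exact Mat.toGLn_X j i

theorem tau_coact_basis (β : Fin b × (Fin a → Fin r)) :
    (tau r a b c).coact (tB r a b β) = ∑ α, tB r a b α ⊗ₜ[ℂ] aT r a b c α β := by
  obtain ⟨m, w⟩ := β
  rw [tB_apply, tau, twist_coact, pi_coact_single]
  have h := tpow_coact_tprod (GLin.comodAlong (CoordGrp.Mat.toGLn r ℂ) (ComodTens.stdVec r ℂ))
    (fun j : Fin r => (Pi.single j (1 : ℂ) : Fin r → ℂ)) (fun j i => GLn.X j i)
    (std_coact_single r) a w
  dsimp only at h ⊢
  rw [h, map_sum, map_sum, Fintype.sum_prod_type, Finset.sum_eq_single m]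
  · refine Finset.sum_congr rfl fun w' _ => ?_
    rw [LinearMap.rTensor_tmul, LinearMap.lTensor_tmul, LinearMap.mulRight_apply, tB_apply, aT,
      if_pos rfl]
    rfl
  · intro m' _ hm'
    refine Finset.sum_eq_zero fun w' _ => ?_
    rw [aT, if_neg hm', TensorProduct.tmul_zero]
  · intro hm
    exact absurd (Finset.mem_univ m) hm

theorem aT_herm (α β : Fin b × (Fin a → Fin r)) :
    sigma r (aT r a b c α β) = aT r a b c β α := by
  rw [aT, aT]
  by_cases h : α.1 = β.1
  · rw [if_pos h, if_pos h.symm, map_mul, map_prod, map_pow, sigma_Dinv]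
    congr 1
    refine Finset.prod_congr rfl fun s _ => ?_
    rw [sigma_X]
  · rw [if_neg h, if_neg (fun h' => h h'.symm), map_zero]

/-- Every subcomodule of the target is the image of a comodule projection. -/
theorem tau_proj (W : Submodule ℂ (Fin b → TensorPower ℂ a (Fin r → ℂ)))
    (hW : ∀ w ∈ W, (tau r a b c).coact w ∈ LinearMap.range (W.subtype.rTensor (GLn r ℂ))) :
    ∃ P : (Fin b → TensorPower ℂ a (Fin r → ℂ)) →ₗ[ℂ] (Fin b → TensorPower ℂ a (Fin r → ℂ)),
      (tau r a b c).coact ∘ₗ P = P.rTensor (GLn r ℂ) ∘ₗ (tau r a b c).coact ∧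
        (∀ x, P x ∈ W) ∧ ∀ x ∈ W, P x = x :=
  exists_comod_proj (sigma r) (fun x y => map_add _ x y) (fun z x => sigma_smul z x)
    (tau r a b c) (tB r a b) (aT r a b c) (tau_coact_basis r a b c) (aT_herm r a b c) W hW

end Groth.Agent.Helper2.GLHerm
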