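import Mathlib
import Groth.Agent.Lib.Helper2.GLHerm.Target
import Groth.Agent.Lib.Helper2.ComodDual

/-!
# Matrix coefficient maps into copies of the regular comodule
-/

set_option autoImplicit false

namespace Groth.Agent.Helper2.GLHerm

open scoped TensorProduct
open CoordGrp ComodTens PiTensorProduct Groth.Agent.Helper2.ComodDual

section General

universe u v w

variable {k : Type u} [CommRing k] {A : Type v} [CommRing A] [HopfAlgebra k A]

lemma prod_tmul_prod {ι : Type*} (S : Finset ι) (f g : ι → A) :
    ∏ s ∈ S, (f s ⊗ₜ[k] g s : A ⊗[k] A) = (∏ s ∈ S, f s) ⊗ₜ[k] (∏ s ∈ S, g s) := by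
  classical
  induction S using Finset.induction_on with
  | empty => simp [Algebra.TensorProduct.one_def]
  | insert i S hi ih =>
    rw [Finset.prod_insert hi, Finset.prod_insert hi, Finset.prod_insert hi, ih,
      Algebra.TensorProduct.tmul_mul_tmul]

variable (n : ℕ)

/-- `n` copies of the regular comodule -/
@[reducible] noncomputable def muReg : HopfRep.Comod k A (Fin n → A) :=
  ComodTens.Comod.pi fun _ : Fin n => HopfRep.Comod.regular k A

variable {n}
variable {V : Type w} [AddCommGroup V] [Module k V] (t : Module.Basis (Fin n) k V)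
  (ρ : HopfRep.Comod k A V)

/-- the matrix coefficient map `V → Aⁿ` -/
noncomputable def coefMap : V →ₗ[k] (Fin n → A) :=
  LinearMap.pi fun i => coordT t i ∘ₗ ρ.coact

lemma coefMap_basis (j : Fin n) : coefMap t ρ (t j) = fun i => coef t ρ i j := rfl

lemma coefMap_basis' (j : Fin n) :
    coefMap t ρ (t j) = ∑ i, Pi.single i (coef t ρ i j) := by
  rw [coefMap_basis]
  funext i
  rw [Finset.sum_apply, Finset.sum_eq_single i]
  · rw [Pi.single_eq_same]
  · intro l _ hl
    rw [Pi.single_eq_of_ne (Ne.symm hl)]
  · intro hi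
    exact absurd (Finset.mem_univ i) hi

theorem coefMap_hom :
    (muReg (k := k) (A := A) n).coact ∘ₗ coefMap t ρ = (coefMap t ρ).rTensor A ∘ₗ ρ.coact := by
  apply t.ext
  intro j
  rw [LinearMap.comp_apply, LinearMap.comp_apply, coact_basis t ρ j, map_sum, coefMap_basis',
    map_sum]
  simp_rw [LinearMap.rTensor_tmul, coefMap_basis', pi_coact_single, TensorProduct.sum_tmul]
  rw [Finset.sum_comm]
  refine Finset.sum_congr rfl fun i _ => ?_
  have : (HopfRep.Comod.regular k A).coact (coef t ρ i j) =
      ∑ l, coef t ρ i l ⊗ₜ[k] coef t ρ l j := comul_coef t ρ i j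
  rw [this, map_sum]
  refine Finset.sum_congr rfl fun l _ => ?_
  rw [LinearMap.rTensor_tmul]
  rfl

theorem coefMap_injective : Function.Injective (coefMap t ρ) := by
  let E : (Fin n → A) →ₗ[k] V :=
    ∑ i, (LinearMap.toSpanSingleton k V (t i)) ∘ₗ (Coalgebra.counit (R := k) (A := A)) ∘ₗ
      LinearMap.proj i
  have hE : E ∘ₗ coefMap t ρ = LinearMap.id := by
    apply t.ext
    intro j
    rw [LinearMap.comp_apply, LinearMap.id_apply, coefMap_basis]
    simp only [E, LinearMap.sum_apply, LinearMap.comp_apply, LinearMap.proj_apply,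
      LinearMap.toSpanSingleton_apply, counit_coef]
    simp
  intro x y hxy
  have := congrArg E hxy
  rwa [← LinearMap.comp_apply, ← LinearMap.comp_apply, hE] at this

end General

end Groth.Agent.Helper2.GLHerm
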