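import Mathlib
import Groth.Agent.Lib.Helper2.GLHerm.Phi

/-!
# The comparison map from the tensor comodule to copies of the regular comodule of `GL_r`
-/

set_option autoImplicit false

namespace Groth.Agent.Helper2.GLHerm

open scoped TensorProduct
open CoordGrp ComodTens PiTensorProduct Groth.Agent.Helper2.ComodDual

variable (r a b c n : ℕ)

/-- the monomials `∏ X (u s) (w s) · Dinv ^ c` -/
noncomputable def gen (u w : Fin a → Fin r) : GLn r ℂ :=
  (∏ s, GLn.X (u s) (w s)) * GLn.Dinv ^ c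

/-- their span -/
noncomputable def SS : Submodule ℂ (GLn r ℂ) :=
  Submodule.span ℂ (Set.range fun uw : (Fin a → Fin r) × (Fin a → Fin r) => gen r a c uw.1 uw.2)

lemma gen_mem (u w : Fin a → Fin r) : gen r a c u w ∈ SS r a c :=
  Submodule.subset_span ⟨(u, w), rfl⟩

lemma comul_gen (u w : Fin a → Fin r) :
    Coalgebra.comul (R := ℂ) (gen r a c u w) =
      ∑ w' : Fin a → Fin r, gen r a c u w' ⊗ₜ[ℂ] gen r a c w' w := by
  rw [← Bialgebra.comulAlgHom_apply, gen, map_mul, map_prod, map_pow]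
  simp_rw [Bialgebra.comulAlgHom_apply, GLn.comul_X, GLn.comul_Dinv]
  rw [Finset.prod_univ_sum, Fintype.piFinset_univ, Algebra.TensorProduct.tmul_pow, Finset.sum_mul]
  refine Finset.sum_congr rfl fun w' _ => ?_
  rw [prod_tmul_prod, Algebra.TensorProduct.tmul_mul_tmul]
  rfl

variable (q : Fin b → Fin n × (Fin a → Fin r))

/-- the comparison map -/
noncomputable def Phi : (Fin b → TensorPower ℂ a (Fin r → ℂ)) →ₗ[ℂ] (Fin n → GLn r ℂ) :=
  (tB r a b).constr ℂ fun β => Pi.single (q β.1).1 (gen r a c (q β.1).2 β.2)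

lemma Phi_basis (β : Fin b × (Fin a → Fin r)) :
    Phi r a b c n q (tB r a b β) = Pi.single (q β.1).1 (gen r a c (q β.1).2 β.2) :=
  Module.Basis.constr_basis _ _ _ _

theorem Phi_hom :
    (muReg (k := ℂ) (A := GLn r ℂ) n).coact ∘ₗ Phi r a b c n q =
      (Phi r a b c n q).rTensor (GLn r ℂ) ∘ₗ (tau r a b c).coact := by
  apply (tB r a b).ext
  rintro ⟨m, w⟩
  rw [LinearMap.comp_apply, LinearMap.comp_apply, tau_coact_basis, Phi_basis, pi_coact_single,
    map_sum, Fintype.sum_prod_type, Finset.sum_eq_single m]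
  · have : (HopfRep.Comod.regular ℂ (GLn r ℂ)).coact (gen r a c (q m).2 w) =
        ∑ w' : Fin a → Fin r, gen r a c (q m).2 w' ⊗ₜ[ℂ] gen r a c w' w := comul_gen r a c _ _
    dsimp only
    rw [this, map_sum]
    refine Finset.sum_congr rfl fun w' _ => ?_
    rw [LinearMap.rTensor_tmul, LinearMap.rTensor_tmul, Phi_basis, aT, if_pos rfl]
    rfl
  · intro m' _ hm'
    refine Finset.sum_eq_zero fun w' _ => ?_
    rw [aT, if_neg hm', TensorProduct.tmul_zero, map_zero]
  · intro hm
    exact absurd (Finset.mem_univ m) hm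

theorem mem_range_Phi (hq : Function.Surjective q) (f : Fin n → GLn r ℂ)
    (hf : ∀ i, f i ∈ SS r a c) : f ∈ LinearMap.range (Phi r a b c n q) := by
  have h1 : ∀ i, (SS r a c).map (LinearMap.single ℂ (fun _ : Fin n => GLn r ℂ) i) ≤
      LinearMap.range (Phi r a b c n q) := by
    intro i
    rw [SS, Submodule.map_span, Submodule.span_le]
    rintro _ ⟨_, ⟨⟨u, w⟩, rfl⟩, rfl⟩
    obtain ⟨m, hm⟩ := hq (i, u)
    refine ⟨tB r a b (m, w), ?_⟩
    rw [Phi_basis, hm]
    rfl
  have h2 : f = ∑ i, Pi.single i (f i) := by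
    funext i
    rw [Finset.sum_apply, Finset.sum_eq_single i]
    · rw [Pi.single_eq_same]
    · intro l _ hl
      rw [Pi.single_eq_of_ne (Ne.symm hl)]
    · intro hi
      exact absurd (Finset.mem_univ i) hi
  rw [h2]
  refine Submodule.sum_mem _ fun i _ => h1 i ?_
  exact ⟨f i, hf i, rfl⟩

end Groth.Agent.Helper2.GLHerm
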