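import Mathlib
import Groth.Agent.Lib.Helper2.GLHerm.PhiGL

/-!
# Matrix coefficients of a homogeneous comodule of `GL_r`
-/

set_option autoImplicit false

namespace Groth.Agent.Helper2.GLHerm

open scoped TensorProduct LaurentPolynomial
open CoordGrp ComodTens Groth.Agent.Helper2.ComodDual LaurentPolynomial

variable (r : ℕ)

/-- coefficient functional on Laurent polynomials -/
noncomputable def coeffT (h : ℤ) : ℂ[T;T⁻¹] →ₗ[ℂ] ℂ where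
  toFun f := f.coeff h
  map_add' _ _ := rfl
  map_smul' _ _ := rfl

lemma coeffT_mul_T (h w : ℤ) (f : ℂ[T;T⁻¹]) : coeffT h (f * T w) = coeffT (h - w) f := by
  change (f * AddMonoidAlgebra.single w 1).coeff h = f.coeff (h - w)
  rw [AddMonoidAlgebra.coeff_mul_single_apply, mul_one, sub_eq_add_neg]

lemma coeffT_T (h w : ℤ) : coeffT h (T w : ℂ[T;T⁻¹]) = if w = h then 1 else 0 :=
  LaurentPolynomial.T_apply h w

/-- the `T^h`-coefficient of an element of `A ⊗ ℂ[T;T⁻¹]` -/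
noncomputable def cf (h : ℤ) : GLn r ℂ ⊗[ℂ] ℂ[T;T⁻¹] →ₗ[ℂ] GLn r ℂ :=
  (TensorProduct.rid ℂ (GLn r ℂ)).toLinearMap ∘ₗ (coeffT h).lTensor (GLn r ℂ)

lemma cf_tmul (h : ℤ) (x : GLn r ℂ) (f : ℂ[T;T⁻¹]) : cf r h (x ⊗ₜ[ℂ] f) = coeffT h f • x := by
  rw [cf, LinearMap.comp_apply, LinearMap.lTensor_tmul]
  exact TensorProduct.rid_tmul _ _

lemma cf_mul_tmul (h w : ℤ) (y : GLn r ℂ ⊗[ℂ] ℂ[T;T⁻¹]) (x : GLn r ℂ) :
    cf r h (y * (x ⊗ₜ[ℂ] T w)) = cf r (h - w) y * x := by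
  induction y using TensorProduct.induction_on with
  | zero => simp
  | tmul b f =>
    rw [Algebra.TensorProduct.tmul_mul_tmul, cf_tmul, cf_tmul, coeffT_mul_T, smul_mul_assoc]
  | add y z hy hz => rw [add_mul, map_add, map_add, hy, hz, add_mul]

/-- `(id ⊗ diag) ∘ Δ` -/
noncomputable def Theta : GLn r ℂ →ₐ[ℂ] GLn r ℂ ⊗[ℂ] ℂ[T;T⁻¹] :=
  (Algebra.TensorProduct.map (AlgHom.id ℂ (GLn r ℂ))
    ((GLn.diag r ℂ (fun _ => 1) : GLn r ℂ →ₐc[ℂ] ℂ[T;T⁻¹]) : GLn r ℂ →ₐ[ℂ] ℂ[T;T⁻¹])).comp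
    (Bialgebra.comulAlgHom ℂ (GLn r ℂ))

lemma Theta_apply (x : GLn r ℂ) :
    Theta r x = TensorProduct.map LinearMap.id
      ((GLn.diag r ℂ (fun _ => 1) : GLn r ℂ →ₐc[ℂ] ℂ[T;T⁻¹]) : GLn r ℂ →ₗ[ℂ] ℂ[T;T⁻¹])
      (Coalgebra.comul (R := ℂ) x) := rfl

lemma Theta_X (i j : Fin r) : Theta r (GLn.X i j) = GLn.X i j ⊗ₜ[ℂ] T 1 := by
  rw [Theta_apply, GLn.comul_X, map_sum, Finset.sum_eq_single j]
  · rw [TensorProduct.map_tmul, LinearMap.id_apply]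
    congr 1
    change GLn.diag r ℂ (fun _ => 1) (GLn.X j j) = _
    rw [GLn.diag_X, if_pos rfl]
  · intro l _ hl
    rw [TensorProduct.map_tmul]
    change _ ⊗ₜ[ℂ] GLn.diag r ℂ (fun _ => 1) (GLn.X l j) = _
    rw [GLn.diag_X, if_neg hl, TensorProduct.tmul_zero]
  · intro hj
    exact absurd (Finset.mem_univ j) hj

lemma Theta_Dinv : Theta r (GLn.Dinv : GLn r ℂ) = GLn.Dinv ⊗ₜ[ℂ] T (-(r : ℤ)) := by
  rw [Theta_apply, GLn.comul_Dinv, TensorProduct.map_tmul, LinearMap.id_apply]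
  congr 1
  change GLn.diag r ℂ (fun _ => 1) GLn.Dinv = _
  rw [GLn.diag_Dinv]
  simp

/-- the weight-`h` component -/
noncomputable def piH (h : ℤ) : GLn r ℂ →ₗ[ℂ] GLn r ℂ := cf r h ∘ₗ (Theta r).toLinearMap

lemma piH_mul_X (h : ℤ) (x : GLn r ℂ) (i j : Fin r) :
    piH r h (x * GLn.X i j) = piH r (h - 1) x * GLn.X i j := by
  change cf r h (Theta r (x * GLn.X i j)) = cf r (h - 1) (Theta r x) * GLn.X i j
  rw [map_mul, Theta_X, cf_mul_tmul]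

lemma piH_mul_Dinv (h : ℤ) (x : GLn r ℂ) :
    piH r h (x * GLn.Dinv) = piH r (h + r) x * GLn.Dinv := by
  change cf r h (Theta r (x * GLn.Dinv)) = cf r (h + r) (Theta r x) * GLn.Dinv
  rw [map_mul, Theta_Dinv, cf_mul_tmul, sub_neg_eq_add]

lemma piH_one (h : ℤ) : piH r h 1 = if h = 0 then 1 else 0 := by
  change cf r h (Theta r 1) = _
  rw [map_one, Algebra.TensorProduct.one_def, ← LaurentPolynomial.T_zero, cf_tmul, coeffT_T]
  split_ifs with h1 h2 h2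
  · simp
  · exact absurd h1.symm h2
  · exact absurd h2.symm h1
  · simp

lemma piH_of_Theta (h : ℤ) (x : GLn r ℂ) (hx : Theta r x = x ⊗ₜ[ℂ] T h) : piH r h x = x := by
  change cf r h (Theta r x) = x
  rw [hx, cf_tmul, coeffT_T, if_pos rfl, one_smul]

end Groth.Agent.Helper2.GLHerm
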