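import Mathlib
import Groth.Agent.Lib.Helper2.GLHerm.Coeff

/-!
# Weight components of the coordinate ring of `GL_r` are spanned by monomials over a power of `det`
-/

set_option autoImplicit false

namespace Groth.Agent.Helper2.GLHerm

open scoped TensorProduct LaurentPolynomial
open CoordGrp ComodTens Groth.Agent.Helper2.ComodDual LaurentPolynomial

variable (r : ℕ)

lemma gen_mul_prod (a d c : ℕ) (u w : Fin a → Fin r) (u' w' : Fin d → Fin r) :
    gen r a c u w * ∏ s, GLn.X (u' s) (w' s) =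
      gen r (a + d) c (Fin.append u u') (Fin.append w w') := by
  rw [gen, gen, Fin.prod_univ_add]
  simp only [Fin.append_left, Fin.append_right]
  ring

lemma SS_mul_prod (a d c : ℕ) (u' w' : Fin d → Fin r) (x : GLn r ℂ) (hx : x ∈ SS r a c) :
    x * ∏ s, GLn.X (u' s) (w' s) ∈ SS r (a + d) c := by
  rw [SS] at hx
  induction hx using Submodule.span_induction with
  | mem y hy =>
    obtain ⟨⟨u, w⟩, rfl⟩ := hy
    rw [gen_mul_prod]
    exact gen_mem _ _ _ _ _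
  | zero => rw [zero_mul]; exact zero_mem _
  | add y z _ _ hy hz => rw [add_mul]; exact add_mem hy hz
  | smul t y _ hy => rw [smul_mul_assoc]; exact Submodule.smul_mem _ _ hy

lemma SS_mul_X (a c : ℕ) (i j : Fin r) (x : GLn r ℂ) (hx : x ∈ SS r a c) :
    x * GLn.X i j ∈ SS r (a + 1) c := by
  have := SS_mul_prod r a 1 c (fun _ => i) (fun _ => j) x hx
  simpa using this

lemma SS_mul_Dinv (a c : ℕ) (x : GLn r ℂ) (hx : x ∈ SS r a c) :
    x * GLn.Dinv ∈ SS r a (c + 1) := by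
  rw [SS] at hx
  induction hx using Submodule.span_induction with
  | mem y hy =>
    obtain ⟨⟨u, w⟩, rfl⟩ := hy
    have : gen r a c u w * GLn.Dinv = gen r a (c + 1) u w := by
      rw [gen, gen, pow_succ, mul_assoc]
    rw [this]
    exact gen_mem _ _ _ _ _
  | zero => rw [zero_mul]; exact zero_mem _
  | add y z _ _ hy hz => rw [add_mul]; exact add_mem hy hz
  | smul t y _ hy => rw [smul_mul_assoc]; exact Submodule.smul_mem _ _ hy

lemma SS_mul_det (a c : ℕ) (x : GLn r ℂ) (hx : x ∈ SS r a c) :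
    x * GLn.det ∈ SS r (a + r) c := by
  rw [GLn.det_eq, Matrix.det_apply', Finset.mul_sum]
  refine Submodule.sum_mem _ fun π _ => ?_
  rw [mul_left_comm, ← zsmul_eq_mul]
  exact zsmul_mem (SS_mul_prod r a r c (fun i => π i) (fun i => i) x hx) _

lemma SS_raise (a c : ℕ) (x : GLn r ℂ) (hx : x ∈ SS r a c) : x ∈ SS r (a + r) (c + 1) := by
  have h : x = x * GLn.det * GLn.Dinv := by rw [mul_assoc, GLn.det_mul_Dinv, mul_one]
  rw [h]
  exact SS_mul_Dinv r _ _ _ (SS_mul_det r _ _ _ hx)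

lemma one_mem_SS : ∀ (c a : ℕ), a = r * c → (1 : GLn r ℂ) ∈ SS r a c := by
  intro c
  induction c with
  | zero =>
    intro a ha
    rw [Nat.mul_zero] at ha
    subst ha
    have : (1 : GLn r ℂ) = gen r 0 0 Fin.elim0 Fin.elim0 := by simp [gen]
    rw [this]
    exact gen_mem _ _ _ _ _
  | succ c ih =>
    intro a ha
    rw [Nat.mul_succ] at ha
    subst ha
    exact SS_raise r _ _ _ (ih _ rfl)

/-- membership in the span of degree-`(h + r c)` monomials over `det ^ c`, for all large `c` -/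
def InU (h : ℤ) (x : GLn r ℂ) : Prop :=
  ∃ c₀ : ℕ, ∀ c ≥ c₀, ∃ a : ℕ, (a : ℤ) = h + r * c ∧ x ∈ SS r a c

variable {r}

lemma InU.zero (hr : 0 < r) (h : ℤ) : InU r h 0 := by
  refine ⟨(-h).toNat, fun c hc => ⟨(h + r * c).toNat, ?_, zero_mem _⟩⟩
  have h1 : (-h) ≤ (c : ℤ) := by
    have := Int.self_le_toNat (-h)
    have h2 : ((-h).toNat : ℤ) ≤ c := by exact_mod_cast hc
    linarith
  have h2 : (c : ℤ) ≤ r * c := by
    have : (1 : ℤ) ≤ r := by exact_mod_cast hr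
    nlinarith [Int.natCast_nonneg c]
  rw [Int.toNat_of_nonneg]
  linarith

lemma InU.add {h : ℤ} {x y : GLn r ℂ} (hx : InU r h x) (hy : InU r h y) : InU r h (x + y) := by
  obtain ⟨c₁, h₁⟩ := hx
  obtain ⟨c₂, h₂⟩ := hy
  refine ⟨max c₁ c₂, fun c hc => ?_⟩
  obtain ⟨a₁, ha₁, hx₁⟩ := h₁ c (le_trans (le_max_left _ _) hc)
  obtain ⟨a₂, ha₂, hx₂⟩ := h₂ c (le_trans (le_max_right _ _) hc)
  have : a₁ = a₂ := by
    have : (a₁ : ℤ) = a₂ := by rw [ha₁, ha₂]
    exact_mod_cast this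
  subst this
  exact ⟨a₁, ha₁, add_mem hx₁ hx₂⟩

lemma InU.smul {h : ℤ} {x : GLn r ℂ} (z : ℂ) (hx : InU r h x) : InU r h (z • x) := by
  obtain ⟨c₁, h₁⟩ := hx
  refine ⟨c₁, fun c hc => ?_⟩
  obtain ⟨a₁, ha₁, hx₁⟩ := h₁ c hc
  exact ⟨a₁, ha₁, Submodule.smul_mem _ _ hx₁⟩

lemma InU.one : InU r 0 (1 : GLn r ℂ) := by
  refine ⟨0, fun c _ => ⟨r * c, ?_, one_mem_SS r c _ rfl⟩⟩
  push_cast
  ring

lemma InU.mul_X {h : ℤ} {x : GLn r ℂ} (hx : InU r h x) (i j : Fin r) :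
    InU r (h + 1) (x * GLn.X i j) := by
  obtain ⟨c₁, h₁⟩ := hx
  refine ⟨c₁, fun c hc => ?_⟩
  obtain ⟨a₁, ha₁, hx₁⟩ := h₁ c hc
  refine ⟨a₁ + 1, ?_, SS_mul_X r _ _ i j _ hx₁⟩
  rw [Nat.cast_add, ha₁]
  push_cast
  ring

lemma InU.mul_Dinv {h : ℤ} {x : GLn r ℂ} (hx : InU r h x) :
    InU r (h - r) (x * GLn.Dinv) := by
  obtain ⟨c₁, h₁⟩ := hx
  refine ⟨c₁ + 1, fun c hc => ?_⟩
  obtain ⟨c', rfl⟩ : ∃ c', c = c' + 1 := ⟨c - 1, by omega⟩
  obtain ⟨a₁, ha₁, hx₁⟩ := h₁ c' (by omega)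
  refine ⟨a₁, ?_, SS_mul_Dinv r _ _ _ hx₁⟩
  rw [ha₁]
  push_cast
  ring

theorem piH_mk_mem (hr : 0 < r) (p : MvPolynomial (GLPoly.Idx r) ℂ) :
    ∀ h : ℤ, InU r h (piH r h (GLn.mk r ℂ p)) := by
  induction p using MvPolynomial.induction_on with
  | C z =>
    intro h
    have h1 : GLn.mk r ℂ (MvPolynomial.C z : MvPolynomial (GLPoly.Idx r) ℂ) = z • (1 : GLn r ℂ) := by
      rw [← Algebra.algebraMap_eq_smul_one]
      exact (GLn.mk r ℂ).commutes z
    rw [h1, map_smul, piH_one]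
    split_ifs with h0
    · subst h0
      exact InU.smul z InU.one
    · rw [smul_zero]
      exact InU.zero hr h
  | add p q hp hq =>
    intro h
    have : GLn.mk r ℂ (p + q : MvPolynomial (GLPoly.Idx r) ℂ) =
        GLn.mk r ℂ p + GLn.mk r ℂ q := map_add (GLn.mk r ℂ) p q
    rw [this, map_add]
    exact InU.add (hp h) (hq h)
  | mul_X p idx hp =>
    intro h
    rcases idx with ⟨i, j⟩ | u
    · have : GLn.mk r ℂ (p * MvPolynomial.X (Sum.inl (i, j)) : MvPolynomial (GLPoly.Idx r) ℂ) =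
          GLn.mk r ℂ p * GLn.X i j := map_mul (GLn.mk r ℂ) p (GLb.X i j)
      rw [this, piH_mul_X]
      have h2 := InU.mul_X (hp (h - 1)) i j
      rwa [sub_add_cancel] at h2
    · have : GLn.mk r ℂ (p * MvPolynomial.X (Sum.inr u) : MvPolynomial (GLPoly.Idx r) ℂ) =
          GLn.mk r ℂ p * GLn.Dinv := map_mul (GLn.mk r ℂ) p (GLb.D)
      rw [this, piH_mul_Dinv]
      have h2 := InU.mul_Dinv (hp (h + r))
      rwa [add_sub_cancel_right] at h2

theorem inU_of_Theta (hr : 0 < r) (h : ℤ) (x : GLn r ℂ) (hx : Theta r x = x ⊗ₜ[ℂ] T h) :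
    InU r h x := by
  obtain ⟨p, rfl⟩ := Ideal.Quotient.mk_surjective (I := GLb.relIdeal r ℂ) x
  rw [← piH_of_Theta r h _ hx]
  exact piH_mk_mem hr p h

theorem exists_common (h : ℤ) {ι : Type*} [Fintype ι] (x : ι → GLn r ℂ)
    (hx : ∀ i, InU r h (x i)) : ∃ a c : ℕ, 0 < c ∧ ∀ i, x i ∈ SS r a c := by
  choose c₀ hc₀ using hx
  refine ⟨(h + r * ((Finset.univ.sup c₀ + 1 : ℕ) : ℤ)).toNat, Finset.univ.sup c₀ + 1,
    Nat.succ_pos _, fun i => ?_⟩
  obtain ⟨a, ha, hxa⟩ := hc₀ i (Finset.univ.sup c₀ + 1)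
    (le_trans (Finset.le_sup (Finset.mem_univ i)) (Nat.le_succ _))
  rw [← ha, Int.toNat_natCast]
  exact hxa

end Groth.Agent.Helper2.GLHerm
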