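import Mathlib
import Groth.Prelude.Def_HopfRep

/-!
# Splitting a comodule off a completely reducible comodule
-/

set_option autoImplicit false

namespace Groth.Agent.Helper2.GLHerm

open scoped TensorProduct

universe u v w₁ w₂ w₃

variable {k : Type u} [Field k] {A : Type v} [AddCommGroup A] [Module k A]

/-- Over a field, the kernel of `g ⊗ id` is `(ker g) ⊗ A`. -/
lemma ker_rTensor_eq {T : Type w₁} {M : Type w₂} [AddCommGroup T] [Module k T] [AddCommGroup M]
    [Module k M] (g : T →ₗ[k] M) :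
    LinearMap.ker (g.rTensor A) = LinearMap.range ((LinearMap.ker g).subtype.rTensor A) := by
  rw [← LinearMap.exact_iff]
  exact Module.Flat.rTensor_exact A (LinearMap.exact_subtype_ker_map g)

variable [Coalgebra k A]
variable {V : Type w₁} {T : Type w₂} {M : Type w₃} [AddCommGroup V] [Module k V]
  [AddCommGroup T] [Module k T] [AddCommGroup M] [Module k M]

/-- If every subcomodule of `T` is the image of a comodule projection, `Φ : T → M` and
`J : V → M` are comodule maps with `J` injective and `range J ≤ range Φ`, then `V` is a comodule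
direct summand of `T`. -/
theorem exists_split (ρ : HopfRep.Comod k A V) (τ : HopfRep.Comod k A T) (μ : HopfRep.Comod k A M)
    (Φ : T →ₗ[k] M) (hΦ : μ.coact ∘ₗ Φ = Φ.rTensor A ∘ₗ τ.coact)
    (J : V →ₗ[k] M) (hJ : μ.coact ∘ₗ J = J.rTensor A ∘ₗ ρ.coact) (hJinj : Function.Injective J)
    (hle : LinearMap.range J ≤ LinearMap.range Φ)
    (hproj : ∀ W : Submodule k T,
      (∀ w ∈ W, τ.coact w ∈ LinearMap.range (W.subtype.rTensor A)) →
      ∃ P : T →ₗ[k] T, τ.coact ∘ₗ P = P.rTensor A ∘ₗ τ.coact ∧ (∀ x, P x ∈ W) ∧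
        ∀ x ∈ W, P x = x) :
    ∃ (i : V →ₗ[k] T) (p : T →ₗ[k] V), p ∘ₗ i = LinearMap.id ∧
      τ.coact ∘ₗ i = i.rTensor A ∘ₗ ρ.coact ∧ ρ.coact ∘ₗ p = p.rTensor A ∘ₗ τ.coact := by
  have hΦ' : ∀ x, μ.coact (Φ x) = Φ.rTensor A (τ.coact x) := fun x => LinearMap.congr_fun hΦ x
  have hJ' : ∀ x, μ.coact (J x) = J.rTensor A (ρ.coact x) := fun x => LinearMap.congr_fun hJ x
  -- the kernel of `Φ`
  have hK : ∀ w ∈ LinearMap.ker Φ,
      τ.coact w ∈ LinearMap.range ((LinearMap.ker Φ).subtype.rTensor A) := by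
    intro w hw
    rw [← ker_rTensor_eq, LinearMap.mem_ker, ← hΦ', LinearMap.mem_ker.1 hw, map_zero]
  obtain ⟨PK, hPKc, hPKmem, hPKfix⟩ := hproj _ hK
  have hPKc' : ∀ x, τ.coact (PK x) = PK.rTensor A (τ.coact x) := fun x => LinearMap.congr_fun hPKc x
  have hΦPK : ∀ x, Φ (PK x) = 0 := fun x => LinearMap.mem_ker.1 (hPKmem x)
  -- the preimage of `range J`
  set g : T →ₗ[k] M ⧸ LinearMap.range J := (LinearMap.range J).mkQ ∘ₗ Φ with hg
  have hmemW : ∀ x, x ∈ LinearMap.ker g ↔ Φ x ∈ LinearMap.range J := by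
    intro x
    rw [LinearMap.mem_ker, hg, LinearMap.comp_apply, Submodule.mkQ_apply,
      Submodule.Quotient.mk_eq_zero]
  have hmkJ : (LinearMap.range J).mkQ ∘ₗ J = 0 := by
    ext v
    simp only [LinearMap.comp_apply, Submodule.mkQ_apply, LinearMap.zero_apply,
      Submodule.Quotient.mk_eq_zero]
    exact ⟨v, rfl⟩
  have hW : ∀ w ∈ LinearMap.ker g,
      τ.coact w ∈ LinearMap.range ((LinearMap.ker g).subtype.rTensor A) := by
    intro w hw
    obtain ⟨v, hv⟩ := (hmemW w).1 hw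
    rw [← ker_rTensor_eq, LinearMap.mem_ker, hg, LinearMap.rTensor_comp, LinearMap.comp_apply,
      ← hΦ', ← hv, hJ', ← LinearMap.comp_apply, ← LinearMap.rTensor_comp, hmkJ,
      LinearMap.rTensor_zero, LinearMap.zero_apply]
  obtain ⟨PW, hPWc, hPWmem, hPWfix⟩ := hproj _ hW
  have hPWc' : ∀ x, τ.coact (PW x) = PW.rTensor A (τ.coact x) := fun x => LinearMap.congr_fun hPWc x
  -- a linear left inverse of `J`
  obtain ⟨L, hL⟩ := LinearMap.exists_leftInverse_of_injective J (LinearMap.ker_eq_bot.2 hJinj)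
  have hL' : ∀ v, L (J v) = v := fun v => LinearMap.congr_fun hL v
  -- a linear lift of `J` through `Φ`
  obtain ⟨s, hΦs⟩ : ∃ s : V →ₗ[k] T, ∀ v, Φ (s v) = J v := by
    obtain ⟨r, hr⟩ := LinearMap.exists_rightInverse_of_surjective Φ.rangeRestrict
      (LinearMap.range_rangeRestrict Φ)
    refine ⟨r ∘ₗ J.codRestrict (LinearMap.range Φ) (fun v => hle ⟨v, rfl⟩), fun v => ?_⟩
    have h1 := LinearMap.congr_fun hr (J.codRestrict (LinearMap.range Φ) (fun v => hle ⟨v, rfl⟩) v)
    have h2 := congrArg Subtype.val h1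
    simpa using h2
  have hQc : ∀ x, τ.coact ((LinearMap.id - PK : T →ₗ[k] T) x) =
      (LinearMap.id - PK : T →ₗ[k] T).rTensor A (τ.coact x) := by
    intro x
    rw [LinearMap.sub_apply, LinearMap.id_apply, map_sub, hPKc', LinearMap.rTensor_sub,
      LinearMap.sub_apply, LinearMap.rTensor_id, LinearMap.id_apply]
  have hQK : (LinearMap.id - PK : T →ₗ[k] T) ∘ₗ (LinearMap.ker Φ).subtype = 0 := by
    ext w
    simp only [LinearMap.comp_apply, LinearMap.sub_apply, LinearMap.id_apply,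
      Submodule.subtype_apply, LinearMap.zero_apply]
    rw [hPKfix w w.2, sub_self]
  refine ⟨(LinearMap.id - PK : T →ₗ[k] T) ∘ₗ s, L ∘ₗ Φ ∘ₗ PW, ?_, ?_, ?_⟩
  · ext v
    simp only [LinearMap.comp_apply, LinearMap.sub_apply, LinearMap.id_apply]
    have h1 : s v - PK (s v) ∈ LinearMap.ker g := by
      rw [hmemW, map_sub, hΦPK, sub_zero, hΦs]
      exact ⟨v, rfl⟩
    rw [hPWfix _ h1, map_sub, hΦPK, sub_zero, hΦs, hL']
  · ext v
    rw [LinearMap.comp_apply, LinearMap.comp_apply, LinearMap.comp_apply, hQc,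
      LinearMap.rTensor_comp, LinearMap.comp_apply, ← sub_eq_zero, ← map_sub]
    have hz : τ.coact (s v) - s.rTensor A (ρ.coact v) ∈ LinearMap.ker (Φ.rTensor A) := by
      rw [LinearMap.mem_ker, map_sub, ← hΦ', hΦs, hJ', ← LinearMap.comp_apply (Φ.rTensor A),
        ← LinearMap.rTensor_comp]
      have : Φ ∘ₗ s = J := LinearMap.ext hΦs
      rw [this, sub_self]
    rw [ker_rTensor_eq] at hz
    obtain ⟨y, hy⟩ := hz
    rw [← hy, ← LinearMap.comp_apply, ← LinearMap.rTensor_comp, hQK, LinearMap.rTensor_zero,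
      LinearMap.zero_apply]
  · ext x
    simp only [LinearMap.comp_apply]
    obtain ⟨v, hv⟩ := (hmemW _).1 (hPWmem x)
    rw [← hv, hL']
    have h1 : ρ.coact v = (L ∘ₗ J).rTensor A (ρ.coact v) := by
      rw [hL, LinearMap.rTensor_id, LinearMap.id_apply]
    rw [h1, LinearMap.rTensor_comp, LinearMap.comp_apply, ← hJ', hv, hΦ', hPWc',
      LinearMap.rTensor_comp, LinearMap.rTensor_comp, LinearMap.comp_apply, LinearMap.comp_apply]

end Groth.Agent.Helper2.GLHerm
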