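import Mathlib
import Groth.Prelude.Def_Hoch
import Groth.Agent.Lib.Helper2.GLHerm.Homog
import Groth.Agent.Lib.Helper2.GLHerm.Split

/-!
# Homogeneous representations of `GL_r` over `ℂ` are summands of twisted tensor powers
-/

set_option autoImplicit false

namespace Groth.Agent.Helper2.GLHerm

open scoped TensorProduct LaurentPolynomial
open CoordGrp ComodTens Groth.Agent.Helper2.ComodDual LaurentPolynomial

variable {r : ℕ}

section
variable {V : Type} [AddCommGroup V] [Module ℂ V] (ρ : HopfRep.Comod ℂ (GLn r ℂ) V) (h : ℤ)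
  (hh : @HopfRep.eigenspace ℂ ℂ[T;T⁻¹] _ _ _ V _ _
      (GLin.comodAlong (CoordGrp.GLn.diag r ℂ (fun _ => 1)) ρ) (T h) = ⊤)
  {n : ℕ} (t : Module.Basis (Fin n) ℂ V)

include hh in
lemma diag_coef (l j : Fin n) :
    GLn.diag r ℂ (fun _ => 1) (coef t ρ l j) = if l = j then T h else 0 := by
  have h1 : t j ∈ @HopfRep.eigenspace ℂ ℂ[T;T⁻¹] _ _ _ V _ _
      (GLin.comodAlong (CoordGrp.GLn.diag r ℂ (fun _ => 1)) ρ) (T h) := by
    rw [hh]; exact Submodule.mem_top
  have h2 : (GLin.comodAlong (CoordGrp.GLn.diag r ℂ (fun _ => 1)) ρ).coact (t j) =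
      t j ⊗ₜ[ℂ] T h := h1
  rw [GLin.comodAlong_coact, coact_basis t ρ j, map_sum] at h2
  simp only [TensorProduct.map_tmul, LinearMap.id_apply] at h2
  have h3 := congrArg (coordT t l) h2
  rw [coordT_sum, coordT_tmul] at h3
  rw [show GLn.diag r ℂ (fun _ => 1) (coef t ρ l j) =
    ((GLn.diag r ℂ (fun _ => 1) : GLn r ℂ →ₐc[ℂ] ℂ[T;T⁻¹]) : GLn r ℂ →ₗ[ℂ] ℂ[T;T⁻¹])
      (coef t ρ l j) from rfl, h3]
  rw [Module.Basis.repr_self, Finsupp.single_apply]
  split_ifs with h4 h5 h5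
  · rw [one_smul]
  · exact absurd h4.symm h5
  · exact absurd h5.symm h4
  · rw [zero_smul]

include hh in
lemma Theta_coef (i j : Fin n) : Theta r (coef t ρ i j) = coef t ρ i j ⊗ₜ[ℂ] T h := by
  rw [Theta_apply, comul_coef, map_sum, Finset.sum_eq_single j]
  · rw [TensorProduct.map_tmul, LinearMap.id_apply]
    congr 1
    have := diag_coef ρ h hh t j j
    rw [if_pos rfl] at this
    exact this
  · intro l _ hl
    rw [TensorProduct.map_tmul]
    have := diag_coef ρ h hh t l j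
    rw [if_neg hl] at this
    change _ ⊗ₜ[ℂ] GLn.diag r ℂ (fun _ => 1) (coef t ρ l j) = 0
    rw [this, TensorProduct.tmul_zero]
  · intro hj
    exact absurd (Finset.mem_univ j) hj

end

/-- The main theorem. -/
theorem main (hr : 0 < r)
    (V : Type) [AddCommGroup V] [Module ℂ V] [Module.Finite ℂ V]
    (ρ : HopfRep.Comod ℂ (GLn r ℂ) V) (h : ℤ)
    (hh : @HopfRep.eigenspace ℂ ℂ[T;T⁻¹] _ _ _ V _ _
      (GLin.comodAlong (CoordGrp.GLn.diag r ℂ (fun _ => 1)) ρ) (T h) = ⊤) :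
    ∃ (a b c : ℕ), 0 < c ∧
      ∃ (i : V →ₗ[ℂ] (Fin b → TensorPower ℂ a (Fin r → ℂ)))
        (p : (Fin b → TensorPower ℂ a (Fin r → ℂ)) →ₗ[ℂ] V),
        p ∘ₗ i = LinearMap.id ∧
        (tau r a b c).coact ∘ₗ i = i.rTensor (GLn r ℂ) ∘ₗ ρ.coact ∧
        ρ.coact ∘ₗ p = p.rTensor (GLn r ℂ) ∘ₗ (tau r a b c).coact := by
  classical
  set n := Module.finrank ℂ V with hn
  let t : Module.Basis (Fin n) ℂ V := Module.finBasis ℂ V
  obtain ⟨a, c, hc, hmem⟩ := exists_common (r := r) h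
    (fun ij : Fin n × Fin n => coef t ρ ij.1 ij.2)
    (fun ij => inU_of_Theta hr h _ (Theta_coef ρ h hh t ij.1 ij.2))
  let e : Fin n × (Fin a → Fin r) ≃ Fin (Fintype.card (Fin n × (Fin a → Fin r))) :=
    Fintype.equivFin _
  refine ⟨a, Fintype.card (Fin n × (Fin a → Fin r)), c, hc, ?_⟩
  refine exists_split ρ (tau r a _ c) (muReg (k := ℂ) (A := GLn r ℂ) n)
    (Phi r a _ c n e.symm) (Phi_hom r a _ c n e.symm) (coefMap t ρ) (coefMap_hom t ρ)
    (coefMap_injective t ρ) ?_ (tau_proj r a _ c)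
  rintro _ ⟨v, rfl⟩
  refine mem_range_Phi r a _ c n e.symm e.symm.surjective _ fun i => ?_
  have hv : coefMap t ρ v i = ∑ j, t.repr v j • coef t ρ i j := by
    conv_lhs => rw [← t.sum_repr v]
    rw [map_sum, Finset.sum_apply]
    refine Finset.sum_congr rfl fun j _ => ?_
    rw [map_smul, Pi.smul_apply, coefMap_basis]
  rw [hv]
  exact Submodule.sum_mem _ fun j _ => Submodule.smul_mem _ _ (hmem (i, j))

end Groth.Agent.Helper2.GLHerm
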